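import Groth.Agent.Lib.MTRigid29.SpMultType
import Groth.Agent.Lib.MTRigid29.TrivGlobal
import Groth.Agent.Lib.MultType.Family
import Groth.Prelude.Def_Red
import Mathlib.AlgebraicGeometry.AlgClosed.Basic

/-!
# Etale splitting of groups of multiplicative type
-/

set_option autoImplicit false
set_option linter.style.haveILetI false
set_option linter.unusedSectionVars false
set_option backward.isDefEq.respectTransparency.types false
set_option maxSynthPendingDepth 3

universe u

open CategoryTheory Limits MonoidalCategory CartesianMonoidalCategory MonObj AlgebraicGeometry Opposite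
open scoped TensorProduct

noncomputable section

namespace Groth.Agent.MTDesc21

open MTRigid29 DiagGL

variable {S : Scheme.{u}}

/-- A group of multiplicative type and of finite type splits etale-locally. -/
theorem exists_etale_chars_ft {H : Over S} [GrpObj H] (hH : SGA3x.IsMultTypeFT H) (s : S) :
    ∃ (S' : Scheme.{u}) (e : S' ⟶ S), Etale e ∧ s ∈ Set.range e ∧
      ∃ (N : Type) (_ : AddCommGroup N), AddGroup.FG N ∧ Nonempty (Chars N (Red.bc e H)) := by
  obtain ⟨V, hV, hsV, -⟩ := exists_isAffineOpen_mem_and_subset (x := s) (U := ⊤) trivial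
  let g : Spec (CommRingCat.of (Γ(S, V) : Type u)) ⟶ S := hV.fromSpec
  haveI : IsOpenImmersion g := inferInstanceAs (IsOpenImmersion hV.fromSpec)
  obtain ⟨p, hp⟩ := hV.range_fromSpec.symm.subset hsV
  obtain ⟨A, _, _, j, -, hsplit, hft, ⟨e⟩⟩ := exists_model_ft hH g
  obtain ⟨J, hJ, T, _, _, hff, hd⟩ := hsplit
  classical
  haveI := hff
  haveI : ∀ i, Module.Flat Γ(S, V) (T i) := fun i =>
    Module.Flat.of_retract (LinearMap.single Γ(S, V) T i) (LinearMap.proj i)
      (LinearMap.proj_comp_single_same _ _ _)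
  haveI := hft
  obtain ⟨R', _, _, _, hp', N, _, hN, ⟨C⟩⟩ :=
    IsotrivialNormal.exists_etale_chars (MultTypeLib.isMultType_of_family T hd) p
  let q : Spec (CommRingCat.of R') ⟶ Spec (CommRingCat.of (Γ(S, V) : Type u)) :=
    Spec.map (CommRingCat.ofHom (algebraMap Γ(S, V) R'))
  haveI : Etale q := (HasRingHomProperty.Spec_iff (P := @Etale)).2 (RingHom.etale_algebraMap.2 inferInstance)
  obtain ⟨p', hp''⟩ := hp'
  refine ⟨_, q ≫ g, inferInstance, ⟨p', ?_⟩, N, inferInstance, hN, ⟨charsComp g q H ?_⟩⟩
  · rw [Scheme.Hom.comp_apply]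
    exact (congrArg g hp'').trans hp
  · haveI : IsMonHom e.inv.hom.hom := e.inv.hom.isMonHom_hom
    haveI : IsMonHom e.hom.hom.hom := e.hom.hom.isMonHom_hom
    haveI := isMonHom_map e.inv.hom.hom q
    let E : Red.bc q (Red.bc g H) ≅ Red.bc q (CoactBr.sp Γ(S, V) A) :=
      (Over.pullback q).mapIso ⟨e.inv.hom.hom, e.hom.hom.hom,
        by rw [← Mon.comp_hom', ← Grp.comp', e.inv_hom_id]; rfl,
        by rw [← Mon.comp_hom', ← Grp.comp', e.hom_inv_id]; rfl⟩
    haveI : IsMonHom E.hom := isMonHom_map e.inv.hom.hom q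
    exact C.transport (Grp.mkIso' E)

/-- Geometric points lift along etale maps. -/
theorem exists_geomPt_over {S' : Scheme.{u}} (e : S' ⟶ S) [Etale e] (s : S) (hs : s ∈ Set.range e) :
    ∃ k : Spec (CommRingCat.of (AlgebraicClosure (S.residueField s))) ⟶ S', k ≫ e = Red.geomPt s := by
  obtain ⟨x, hx⟩ := hs
  have hpt : Red.geomPt s (IsLocalRing.closedPoint _) = s :=
    Scheme.fromSpecResidueField_apply s _
  obtain ⟨z, -, -⟩ := Scheme.Pullback.exists_preimage_pullback (f := e) (g := Red.geomPt s) x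
    (IsLocalRing.closedPoint _) (hx.trans hpt.symm)
  haveI : LocallyOfFiniteType (pullback.snd e (Red.geomPt s)) := inferInstance
  haveI : JacobsonSpace ↥(pullback e (Red.geomPt s)) :=
    LocallyOfFiniteType.jacobsonSpace (pullback.snd e (Red.geomPt s))
  obtain ⟨w, -, hw⟩ := nonempty_inter_closedPoints (Z := (Set.univ : Set ↥(pullback e (Red.geomPt s))))
    ⟨z, trivial⟩ isClosed_univ.isLocallyClosed
  refine ⟨pointOfClosedPoint (pullback.snd e (Red.geomPt s)) w hw ≫ pullback.fst e (Red.geomPt s), ?_⟩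
  rw [Category.assoc, pullback.condition, ← Category.assoc, pointOfClosedPoint_comp, Category.id_comp]

end Groth.Agent.MTDesc21
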