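import Groth.Agent.Lib.MTDesc21.Family
import Groth.Agent.Lib.MTExt21.BaseChange
import Groth.Agent.Lib.MTDesc21.Split
import Groth.Agent.Lib.SchDesc12.Glue

/-!
# The maximal torus of a group of multiplicative type
-/

set_option autoImplicit false
set_option linter.style.haveILetI false
set_option linter.unusedSectionVars false
set_option backward.isDefEq.respectTransparency.types false
set_option maxSynthPendingDepth 3

universe u

open CategoryTheory Limits MonoidalCategory CartesianMonoidalCategory MonObj AlgebraicGeometry Opposite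

noncomputable section

namespace Groth.Agent.MTDesc21

open DiagGL MTRigid29

variable {S S' : Scheme.{u}}

/-- Maximal tori transfer along compatible isomorphisms. -/
theorem isMaximalTorus_transfer {T T' G G' : Over S} [GrpObj T] [GrpObj T'] [GrpObj G] [GrpObj G'] {i : T ⟶ G}
    (hT : Red.IsMaximalTorus i) (eT : T' ≅ T) [IsMonHom eT.hom] (eG : G' ≅ G) [IsMonHom eG.hom] (i' : T' ⟶ G')
    (h : i' ≫ eG.hom = eT.hom ≫ i) (hT' : Red.IsTorus T') : Red.IsMaximalTorus i' := by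
  haveI := hT.1
  haveI := hT.2.1
  haveI : IsMonHom i' := MTExt21.isMonHom_of_comp' eG.hom i'
    (show IsMonHom (i' ≫ eG.hom) by rw [h]; infer_instance)
  haveI : Mono (eT.hom ≫ i) := mono_comp _ _
  haveI : Mono (i' ≫ eG.hom) := by rw [h]; infer_instance
  refine ⟨inferInstance, mono_of_mono i' eG.hom, hT', fun s T'' _ j _ _ f hT'' hf => ?_⟩
  haveI : IsMonHom ((Over.pullback (Red.geomPt s)).mapIso eT).hom := MTRigid29.isMonHom_map eT.hom _
  haveI : IsMonHom ((Over.pullback (Red.geomPt s)).mapIso eG).hom := MTRigid29.isMonHom_map eG.hom _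
  exact (MTExt21.isMaxTorus_transfer (⟨MTRigid29.isMonHom_map i _, Functor.map_mono _ _, MTExt21.isTorus_bc hT.2.2.1 _, fun T₁ _ j₁ _ _ g₁ hT₁ hg₁ => hT.2.2.2 s T₁ j₁ g₁ hT₁ hg₁⟩ : AGF.IsMaxTorus ((Over.pullback (Red.geomPt s)).map i)) ((Over.pullback (Red.geomPt s)).mapIso eT)
    ((Over.pullback (Red.geomPt s)).mapIso eG) ((Over.pullback (Red.geomPt s)).map i')
    (by rw [Functor.mapIso_hom, Functor.mapIso_hom, ← Functor.map_comp, h, Functor.map_comp])).2.2.2 T'' j f hT'' hf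

/-- Surjections both ways between finitely generated groups are bijective. -/
theorem bijective_of_surjective_both {M N : Type} [AddCommGroup M] [AddCommGroup N] [Module.Finite ℤ M]
    (α : M →+ N) (β : N →+ M) (hα : Function.Surjective α) (hβ : Function.Surjective β) : Function.Bijective α :=
  ⟨Function.Injective.of_comp (f := β)
    (OrzechProperty.injective_of_surjective_endomorphism (β.comp α).toIntLinearMap (hβ.comp hα)), hα⟩

/-- The characters splitting a torus are free. -/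
theorem exists_addEquiv_of_torus {T : Over S} [GrpObj T] (hT : Red.IsTorus T) (e : S' ⟶ S) (s : S') {N : Type}
    [AddCommGroup N] [AddGroup.FG N] (C : Chars N (Red.bc e T)) :
    ∃ r : ℕ, Nonempty (N ≃+ (Fin r → ℤ)) := by
  let k := Red.geomPt s
  obtain ⟨r, ⟨D⟩⟩ := TorPts21.exists_chars (MTExt21.isTorus_bc (MTExt21.isTorus_bc hT e) k)
  let C' := C.baseChange k (Red.bc e T)
  haveI : AddGroup.FG (Fin r → ℤ) := AddGroup.fg_iff_addMonoid_fg.2 inferInstance
  haveI : Module.Finite ℤ N := Module.Finite.iff_addGroup_fg.2 inferInstance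
  obtain ⟨α, hα⟩ := exists_mapChS_field D C' (𝟙 (Red.bc k (Red.bc e T)))
  obtain ⟨β, hβ⟩ := exists_mapChS_field C' D (𝟙 (Red.bc k (Red.bc e T)))
  haveI : Mono (mapChS D C' α) := by rw [← hα]; infer_instance
  haveI : Mono (mapChS C' D β) := by rw [← hβ]; infer_instance
  exact ⟨r, ⟨AddEquiv.ofBijective α (bijective_of_surjective_both α β
    (surjective_of_mono_mapChS D C' α) (surjective_of_mono_mapChS C' D β))⟩⟩

/-- A character of finite order kills every homomorphism from a torus. -/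
theorem ch_eq_one_of_torus {R H : Over S} [GrpObj R] [GrpObj H] (hR : Red.IsTorus R) (u : R ⟶ H) [IsMonHom u]
    {M : Type} [AddCommGroup M] (C : Chars M H) (m : M) {n : ℕ} (hn : 0 < n) (hm : n • m = 0)
    {X : Over S} (x : X ⟶ R) : C.ch (x ≫ u) (Multiplicative.ofAdd m) = 1 := by
  have hR' := isMultTypeFT_of_torus hR
  choose V e he hs N hN hNfg hC using MTDesc21.exists_etale_chars_ft hR'
  let Q : Over S := Red.DS S (ZMod n)
  let CQ : Chars (ZMod n) Q := charsDS S (ZMod n)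
  let g : ZMod n →+ M := ZMod.lift n ⟨zmultiplesHom M m, by
    rw [zmultiplesHom_apply, natCast_zsmul, hm]⟩
  have hg : g 1 = m := by
    have h1 := ZMod.lift_coe n ⟨zmultiplesHom M m, by rw [zmultiplesHom_apply, natCast_zsmul, hm]⟩ 1
    simpa [g] using h1
  let w : R ⟶ Q := u ≫ mapChS C CQ g
  suffices hw : w = 1 by
    have h1 : CQ.ch (x ≫ w) (Multiplicative.ofAdd 1) = 1 := by rw [hw, MonObj.comp_one, CQ.one]
    rw [← Category.assoc, ch_mapChS] at h1
    rw [← hg]
    exact h1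
  have hloc : ∀ s, (Over.pullback (e s)).map w = 1 := by
    intro s
    haveI := hNfg s
    obtain ⟨D⟩ := hC s
    obtain ⟨t, -⟩ := hs s
    obtain ⟨r, ⟨ε⟩⟩ := exists_addEquiv_of_torus hR (e s) t D
    haveI := MTRigid29.isMonHom_map w (e s)
    let q := mapChS D D (nsmulAddMonoidHom n)
    have hinj : Function.Injective (nsmulAddMonoidHom n : N s →+ N s) := fun a b hab => ε.injective (by
      have h1 := congrArg ε (show n • a = n • b from hab)
      rw [map_nsmul, map_nsmul] at h1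
      funext i
      have h2 := congrFun h1 i
      simp only [Pi.smul_apply, nsmul_eq_mul] at h2
      exact mul_left_cancel₀ (by exact_mod_cast hn.ne') h2)
    obtain ⟨hfl, hsu⟩ := flat_surjective_mapChS D D hinj
    haveI := hfl
    haveI := hsu
    haveI : IsAffineHom (Red.bc (e s) R).hom := isAffineHom_of_isMultTypeFT (isMultTypeFT_bc hR' (e s))
    haveI : IsAffineHom (q.left ≫ (Red.bc (e s) R).hom) := by rw [Over.w q]; infer_instance
    haveI : QuasiCompact q.left := by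
      haveI : IsAffineHom q.left := IsAffineHom.of_comp q.left (Red.bc (e s) R).hom
      infer_instance
    haveI : Epi q.left := inferInstance
    haveI : Epi q := Over.epi_of_epi_left q
    have hq : q = (𝟙 (Red.bc (e s) R)) ^ n := D.inj fun a => by
      rw [← Category.id_comp q, ch_mapChS]
      have hpow : ∀ k : ℕ, D.ch ((𝟙 (Red.bc (e s) R)) ^ k) a = (D.ch (𝟙 _) a) ^ k := fun k => by
        induction k with
        | zero => rw [pow_zero, pow_zero, D.one]
        | succ k ih => rw [pow_succ, pow_succ, D.mul, ih]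
      rw [hpow, ← map_pow]
      rfl
    let D' := CQ.baseChange (e s) Q
    rw [← cancel_epi q, MonObj.comp_one, hq]
    refine D'.inj fun a => ?_
    have hpow : ∀ k : ℕ, D'.ch (((𝟙 (Red.bc (e s) R)) ^ k : Red.bc (e s) R ⟶ Red.bc (e s) R) ≫ (Over.pullback (e s)).map w) a =
        (D'.ch ((Over.pullback (e s)).map w) a) ^ k := fun k => by
      induction k with
      | zero => rw [pow_zero, pow_zero, MonObj.one_comp, D'.one]
      | succ k ih => rw [pow_succ, pow_succ, MonObj.mul_comp, D'.mul, ih, Category.id_comp]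
    rw [hpow, D'.one, ← map_pow, show a ^ n = 1 from Multiplicative.toAdd.injective (ZModModule.char_nsmul_eq_zero n _),
      map_one]
  refine Over.OverMorphism.ext (SchDesc12.hom_ext_fpqc (fun s => pullback.fst R.hom (e s))
    (EtRep3.mem_fpqc_of_etale _ (fun s => by haveI := he s; infer_instance) fun z => ?_) fun s => ?_)
  · obtain ⟨y, hy⟩ := hs (R.hom z)
    obtain ⟨p, hp, -⟩ := Scheme.Pullback.exists_preimage_pullback (f := R.hom) (g := e (R.hom z)) z y hy.symm
    exact ⟨R.hom z, p, hp⟩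
  · have h1 := congrArg (fl (e s) Q) (show 𝟙 _ ≫ (Over.pullback (e s)).map w = 1 by rw [Category.id_comp, hloc])
    rw [fl_comp_map, fl_one] at h1
    have h2 : fl (e s) R (𝟙 _) ≫ w = fl (e s) R (𝟙 _) ≫ (1 : R ⟶ Q) := by rw [h1, MonObj.comp_one]
    have h3 : (fl (e s) R (𝟙 (Red.bc (e s) R))).left = pullback.fst R.hom (e s) := by
      rw [MTRigid29.fl_left, show (𝟙 (Red.bc (e s) R) : Red.bc (e s) R ⟶ _).left = 𝟙 _ from rfl, Category.id_comp]
    rw [← h3]
    exact congrArg CommaMorphism.left h2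

/-- The split maximal torus inside a split group. -/
theorem isMaximalTorus_mapChS {T H : Over S} [GrpObj T] [GrpObj H] {r : ℕ} {M : Type} [AddCommGroup M]
    [AddGroup.FG M] (C₁ : Chars (Fin r → ℤ) T) (C₂ : Chars M H) (φ : M →+ (Fin r → ℤ)) (hφ : Function.Surjective φ)
    (hker : ∀ m, φ m = 0 → ∃ n : ℕ, 0 < n ∧ n • m = 0) : Red.IsMaximalTorus (mapChS C₁ C₂ φ) := by
  haveI := mono_mapChS C₁ C₂ hφ
  refine ⟨inferInstance, inferInstance, TorPts21.isTorus_of_chars C₁, fun s T' _ j _ _ f hT' hf => ?_⟩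
  let k := Red.geomPt s
  let D₁ := C₁.baseChange k T
  let D₂ := C₂.baseChange k H
  obtain ⟨r', ⟨D'⟩⟩ := TorPts21.exists_chars hT'
  haveI : AddGroup.FG (Fin r' → ℤ) := AddGroup.fg_iff_addMonoid_fg.2 inferInstance
  haveI : Mono ((Over.pullback k).map (mapChS C₁ C₂ φ)) := Functor.map_mono _ _
  haveI : IsMonHom ((Over.pullback k).map (mapChS C₁ C₂ φ)) := MTRigid29.isMonHom_map _ _
  haveI : IsMonHom (f ≫ j) := hf.symm ▸ ‹IsMonHom ((Over.pullback k).map (mapChS C₁ C₂ φ))›
  haveI : IsMonHom f := MTExt21.isMonHom_of_comp' j f inferInstance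
  haveI : Mono (f ≫ j) := hf.symm ▸ ‹Mono ((Over.pullback k).map (mapChS C₁ C₂ φ))›
  haveI : Mono f := mono_of_mono f j
  obtain ⟨ψ, hψ⟩ := exists_mapChS_field D' D₂ j
  obtain ⟨θ, hθ⟩ := exists_mapChS_field D₁ D' f
  haveI : Mono (mapChS D' D₂ ψ) := hψ ▸ inferInstance
  haveI : Mono (mapChS D₁ D' θ) := hθ ▸ inferInstance
  have hψs := surjective_of_mono_mapChS D' D₂ ψ
  have hθs := surjective_of_mono_mapChS D₁ D' θ
  have hψk : ∀ m, φ m = 0 → ψ m = 0 := fun m hm => by
    obtain ⟨n, hn, hnm⟩ := hker m hm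
    have h1 := congrArg ψ hnm
    rw [map_nsmul, map_zero] at h1
    funext i
    have h2 := congrFun h1 i
    simp only [Pi.smul_apply, nsmul_eq_mul, Pi.zero_apply] at h2
    exact (mul_eq_zero.1 h2).resolve_left (by exact_mod_cast hn.ne')
  let ψ' : (Fin r → ℤ) →+ (Fin r' → ℤ) := φ.liftOfSurjective hφ ⟨ψ, fun m hm => hψk m hm⟩
  have hψ's : Function.Surjective ψ' := fun y => by
    obtain ⟨m, rfl⟩ := hψs y
    exact ⟨φ m, AddMonoidHom.liftOfRightInverse_comp_apply _ _ _ _ m⟩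
  let ε := AddEquiv.ofBijective θ (bijective_of_surjective_both θ ψ' hθs hψ's)
  refine ⟨⟨mapChS D' D₁ ε.symm.toAddMonoidHom, ?_, ?_⟩⟩
  · rw [hθ, mapChS_comp, show θ.comp ε.symm.toAddMonoidHom = AddMonoidHom.id _ from
      AddMonoidHom.ext fun y => ε.apply_symm_apply y, mapChS_id]
  · rw [hθ, mapChS_comp, show ε.symm.toAddMonoidHom.comp θ = AddMonoidHom.id _ from
      AddMonoidHom.ext fun y => ε.symm_apply_apply y, mapChS_id]

/-- Free and torsion parts. -/
theorem exists_free_part (M : Type) [AddCommGroup M] [AddGroup.FG M] :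
    ∃ (r : ℕ) (φ : M →+ (Fin r → ℤ)) (σ : (Fin r → ℤ) →+ M), (∀ y, φ (σ y) = y) ∧
      ∀ m, φ m = 0 → ∃ n : ℕ, 0 < n ∧ n • m = 0 := by
  classical
  obtain ⟨n, J, _, p, hp, e, ⟨f⟩⟩ := AddCommGroup.equiv_free_prod_directSum_zmod M
  let L := (Finsupp.linearEquivFunOnFinite ℤ ℤ (Fin n)).toAddEquiv
  haveI : ∀ i, NeZero (p i ^ e i) := fun i => ⟨pow_ne_zero _ (hp i).ne_zero⟩
  haveI : Finite (DirectSum J fun i => ZMod (p i ^ e i)) :=
    Finite.of_equiv _ (DirectSum.addEquivProd (fun i => ZMod (p i ^ e i))).symm.toEquiv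
  refine ⟨n, L.toAddMonoidHom.comp ((AddMonoidHom.fst _ _).comp f.toAddMonoidHom),
    f.symm.toAddMonoidHom.comp ((AddMonoidHom.inl _ _).comp L.symm.toAddMonoidHom), fun y => by simp, fun m hm => ?_⟩
  refine ⟨Nat.card (DirectSum J fun i => ZMod (p i ^ e i)), Nat.card_pos, f.injective ?_⟩
  rw [map_nsmul, map_zero]
  refine Prod.ext ?_ ?_
  · have h1 : (f m).1 = 0 := L.injective (by simpa using hm)
    simp [h1]
  · simp [card_nsmul_eq_zero']

/-- A point killing the torsion characters lies in the torus part. -/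
theorem exists_lift_free {T H : Over S} [GrpObj T] [GrpObj H] {r : ℕ} {M : Type} [AddCommGroup M]
    (C₁ : Chars (Fin r → ℤ) T) (C₂ : Chars M H) (φ : M →+ (Fin r → ℤ)) (σ : (Fin r → ℤ) →+ M)
    (hσ : ∀ y, φ (σ y) = y) {X : Over S} (x : X ⟶ H)
    (hx : ∀ m, φ m = 0 → C₂.ch x (Multiplicative.ofAdd m) = 1) : ∃ y : X ⟶ T, y ≫ mapChS C₁ C₂ φ = x := by
  obtain ⟨y, hy⟩ := C₁.surj ((C₂.ch x).comp σ.toMultiplicative)
  refine ⟨y, C₂.inj fun m => ?_⟩
  rw [ch_mapChS, hy, MonoidHom.comp_apply]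
  have h2 : φ (m.toAdd - σ (φ m.toAdd)) = 0 := by rw [map_sub, hσ, sub_self]
  have h3 := hx _ h2
  have h4 : m = Multiplicative.ofAdd (σ (φ m.toAdd)) * Multiplicative.ofAdd (m.toAdd - σ (φ m.toAdd)) := by
    rw [← ofAdd_add, add_sub_cancel, ofAdd_toAdd]
  conv_rhs => rw [h4, map_mul, h3, _root_.mul_one]
  rfl

set_option maxHeartbeats 1000000 in
/-- Tori map into the torus parts, read over different neighbourhoods. -/
theorem exists_lift_of_torus {H : Over S} [GrpObj H] {U U' : Scheme.{u}} {f : U ⟶ S} {f' : U' ⟶ S}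
    {W : Over U'} [GrpObj W] (hW : Red.IsTorus W) (u' : W ⟶ Red.bc f' H) [IsMonHom u']
    {T : Over U} [GrpObj T] {r : ℕ} {M : Type} [AddCommGroup M]
    (C₁ : Chars (Fin r → ℤ) T) (C₂ : Chars M (Red.bc f H)) (φ : M →+ (Fin r → ℤ)) (σ : (Fin r → ℤ) →+ M)
    (hσ : ∀ y, φ (σ y) = y) (hker : ∀ m, φ m = 0 → ∃ n : ℕ, 0 < n ∧ n • m = 0)
    (Z : Over U) (p : (Over.map f).obj Z ⟶ (Over.map f').obj W) :
    ∃ y : Z ⟶ T, fl f H (y ≫ mapChS C₁ C₂ φ) = p ≫ fl f' H u' := by
  let P := pullback f f'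
  let p₁ : P ⟶ U := pullback.fst f f'
  let p₂ : P ⟶ U' := pullback.snd f f'
  let q : P ⟶ S := p₁ ≫ f
  have h₂ : p₂ ≫ f' = q := pullback.condition.symm
  have hm : Z.hom ≫ f = (p.left ≫ W.hom) ≫ f' := ((Over.w p).symm.trans (Category.assoc _ _ _).symm)
  let Y : Over P := Over.mk (pullback.lift Z.hom (p.left ≫ W.hom) hm)
  obtain ⟨x, hx⟩ := fl_surjective p₂ W (T := Y) (Over.homMk p.left (pullback.lift_snd _ _ _).symm)
  haveI := isMonHom_twist u' h₂
  haveI := isMonHom_compIso (show p₁ ≫ f = q from rfl) H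
  haveI : IsMonHom (compIso (show p₁ ≫ f = q from rfl) H).symm.hom :=
    MTExt21.isMonHom_of_comp' (compIso (show p₁ ≫ f = q from rfl) H).hom _ (by
      rw [Iso.symm_hom, Iso.inv_hom_id]; infer_instance)
  let w : Red.bc p₂ W ⟶ Red.bc p₁ (Red.bc f H) := twist u' h₂ ≫ (compIso (show p₁ ≫ f = q from rfl) H).symm.hom
  let i : (Over.map p₁).obj Y ≅ Z := Over.isoMk (Iso.refl _) (by
    show 𝟙 _ ≫ Z.hom = pullback.lift Z.hom (p.left ≫ W.hom) hm ≫ p₁
    rw [Category.id_comp]
    exact (pullback.lift_fst _ _ _).symm)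
  obtain ⟨y, hy⟩ := exists_lift_free C₁ C₂ φ σ hσ (i.inv ≫ fl p₁ _ (x ≫ w)) fun m hm' => by
    obtain ⟨n, hn, hnm⟩ := hker m hm'
    rw [C₂.nat, show C₂.ch (fl p₁ (Red.bc f H) (x ≫ w)) (Multiplicative.ofAdd m) = 1 from
      ch_eq_one_of_torus (MTExt21.isTorus_bc hW p₂) w (C₂.baseChange p₁ _) m hn hnm x]
    exact map_one _
  refine ⟨y, ?_⟩
  have h5 := congrArg (fl q H) (show x ≫ w ≫ (compIso (show p₁ ≫ f = q from rfl) H).hom = x ≫ twist u' h₂ by
    simp [w])
  rw [← Category.assoc, fl_compIso, fl_twist, hx] at h5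
  rw [hy, fl_comp]
  have h6 : fl f H (fl p₁ _ (x ≫ w)) = ((twoStep (show p₁ ≫ f = q from rfl) Y).inv ≫ (twoStep h₂ Y).hom) ≫
      fl f' H ((Over.homMk p.left (pullback.lift_snd _ _ _).symm : (Over.map p₂).obj Y ⟶ W) ≫ u') := by
    rw [Category.assoc, ← h5, Iso.inv_hom_id_assoc]
  rw [h6, fl_comp, ← Category.assoc, ← Category.assoc, ← Category.assoc]
  congr 1

set_option maxHeartbeats 2000000 in
/-- A group of multiplicative type has a largest torus, which is a maximal torus. -/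
theorem exists_maxTorus_of_multType (H : Over S) [GrpObj H] (hH : SGA3x.IsMultTypeFT H) :
    ∃ (T : Over S) (_ : GrpObj T) (i : T ⟶ H), Red.IsMaximalTorus i ∧
      ∀ (R : Over S) [GrpObj R] (j : R ⟶ H) [IsMonHom j], Red.IsTorus R → ∃ f : R ⟶ T, f ≫ i = j := by
  haveI := locallyOfFiniteType_of_isMultTypeFT hH
  choose U e he hs M hM hMfg hC using MTDesc21.exists_etale_chars_ft hH
  haveI := hMfg
  let C : ∀ s, Chars (M s) (Red.bc (e s) H) := fun s => (hC s).some
  choose r φ σ hσ hker using fun s => exists_free_part (M s)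
  let W : ∀ s, Over (U s) := fun s => Red.DS (U s) (Fin (r s) → ℤ)
  let E : ∀ s, Chars (Fin (r s) → ℤ) (W s) := fun s => charsDS _ _
  let j : ∀ s, W s ⟶ Red.bc (e s) H := fun s => mapChS (E s) (C s) (φ s)
  have hφs : ∀ s, Function.Surjective (φ s) := fun s y => ⟨σ s y, hσ s y⟩
  haveI : ∀ s, Mono (j s) := fun s => mono_mapChS _ _ (hφs s)
  haveI : ∀ s, IsMonHom (j s) := fun s => isMonHom_mapChS _ _ _
  haveI : ∀ s, AddGroup.FG (Fin (r s) → ℤ) := fun s => AddGroup.fg_iff_addMonoid_fg.2 inferInstance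
  have hW : ∀ s, Red.IsTorus (W s) := fun s => TorPts21.isTorus_of_chars (E s)
  obtain ⟨A, _, a, ham, hamono, hφA, hfac⟩ := exists_descent_family j
    (EtRep3.mem_fpqc_of_etale e he fun s => ⟨s, hs s⟩)
    (fun s => isAffineHom_of_isMultTypeFT (isMultTypeFT_of_chars (E s)))
    fun i i' Z p => exists_lift_of_torus (hW i') (j i') (E i) (C i) (φ i) (σ i) (hσ i) (hker i) Z p
  haveI := ham
  haveI := hamono
  choose ψ hψm hψ using hφA
  haveI := hψm
  haveI := he
  have hAC : ∀ s, Chars (Fin (r s) → ℤ) (Red.bc (e s) A) := fun s =>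
    (E s).transport (Grp.mkIso' (ψ s))
  have hA : Red.IsTorus A := isTorus_of_etale_split A U e (fun s => ⟨s, hs s⟩) r hAC
  refine ⟨A, inferInstance, a, ⟨ham, hamono, hA, fun s T' _ l _ _ g hT' hg => ?_⟩, fun R _ l _ hR => ?_⟩
  · haveI : LocallyOfFiniteType (Red.bc (e s) H).hom := inferInstanceAs (LocallyOfFiniteType (pullback.snd H.hom (e s)))
    haveI : IsMonHom (Iso.refl (Red.bc (e s) H)).hom := inferInstanceAs (IsMonHom (𝟙 _))
    have hmax : Red.IsMaximalTorus ((Over.pullback (e s)).map a) :=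
      isMaximalTorus_transfer (isMaximalTorus_mapChS (E s) (C s) (φ s) (hφs s) (hker s)) (ψ s) (Iso.refl _) _
        (by rw [Iso.refl_hom, Category.comp_id]; exact (hψ s).symm) (MTExt21.isTorus_bc hA (e s))
    obtain ⟨k₁, hk₁⟩ := MTDesc21.exists_geomPt_over (e s) s (hs s)
    exact (MTExt21.isMaxTorus_congr hk₁ (MTExt21.isMaxTorus_bcComp' (e s) k₁
      (MTExt21.isMaxTorus_anyPt hmax k₁))).2.2.2 T' l g hT' hg
  · haveI : IsMonHom ((Over.pullback (𝟙 S)).map l) := MTRigid29.isMonHom_map l _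
    refine hfac l fun i Z p => ?_
    let iR : (Over.map (𝟙 S)).obj R ≅ R := Over.isoMk (Iso.refl _) (by
      show 𝟙 _ ≫ R.hom = R.hom ≫ 𝟙 S
      rw [Category.id_comp, Category.comp_id])
    obtain ⟨g₀, hg₀⟩ := fl_surjective (𝟙 S) R (T := R) iR.hom
    obtain ⟨y, hy⟩ := exists_lift_of_torus (MTExt21.isTorus_bc hR (𝟙 S)) ((Over.pullback (𝟙 S)).map l)
      (E i) (C i) (φ i) (σ i) (hσ i) (hker i) Z (p ≫ iR.inv ≫ (Over.map (𝟙 S)).map g₀)
    refine ⟨y, hy.trans ?_⟩
    rw [Category.assoc, Category.assoc, ← fl_comp, fl_comp_map, hg₀, Iso.inv_hom_id_assoc]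

end Groth.Agent.MTDesc21
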