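import Groth.Agent.Lib.MTRigid29.CentralSubDesc
import Groth.Agent.Lib.MTRigid29.SpMultType
import Groth.Agent.Lib.MTRigid29.RepDesc
import Groth.Agent.Lib.EtRep3.Site
import Groth.Agent.Lib.TorPts21.Split

/-!
# Descent of subgroups given by a family with agreeing points
-/

set_option autoImplicit false
set_option linter.style.haveILetI false
set_option linter.unusedSectionVars false
set_option backward.isDefEq.respectTransparency false
set_option backward.isDefEq.respectTransparency.types false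
set_option maxSynthPendingDepth 3

universe u

open CategoryTheory Limits MonoidalCategory CartesianMonoidalCategory MonObj GrpObj AlgebraicGeometry Opposite
open Groth.Agent Groth.Agent.DiagGL Groth.Agent.MTRigid29

noncomputable section

namespace Groth.Agent.MTDesc21

variable {S : Scheme.{u}} {G : Over S} [GrpObj G] {κ : Type u} {U : κ → Scheme.{u}} {f : ∀ i, U i ⟶ S}
  {W : ∀ i, Over (U i)} (j : ∀ i, W i ⟶ Red.bc (f i) G)

/-- The points which lie in every member of the family. -/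
def famFunctor : (Over S)ᵒᵖ ⥤ Type u where
  obj T := {x : T.unop ⟶ G // ∀ (i : κ) (Z : Over (U i)) (p : (Over.map (f i)).obj Z ⟶ T.unop),
    ∃ y : Z ⟶ W i, fl (f i) G (y ≫ j i) = p ≫ x}
  map {T T'} a := TypeCat.ofHom fun x => ⟨a.unop ≫ x.1, fun i Z p => by
    rw [← Category.assoc]; exact x.2 i Z (p ≫ a.unop)⟩
  map_id T := by ext x; exact Category.id_comp _
  map_comp a b := by ext x; exact Category.assoc _ _ _

theorem isSheaf_famFunctor [∀ i, Mono (j i)] :
    Presieve.IsSheaf (Scheme.fpqcTopology.over S) (famFunctor j) := by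
  intro T R hR fam hfam
  have hG : Presieve.IsSheaf (Scheme.fpqcTopology.over S) (yoneda.obj G) :=
    GrothendieckTopology.Subcanonical.isSheaf_of_isRepresentable _
  let fG : Presieve.FamilyOfElements (yoneda.obj G) R.arrows := fun {T'} q hq => (fam q hq).1
  have hfG : fG.Compatible := fun {Y₁ Y₂ Z} g₁ g₂ f₁ f₂ h₁ h₂ hh => congrArg Subtype.val (hfam g₁ g₂ h₁ h₂ hh)
  obtain ⟨x, hx, hxu⟩ := hG R hR fG hfG
  have hprop : ∀ (i : κ) (Z : Over (U i)) (p : (Over.map (f i)).obj Z ⟶ T),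
      ∃ y : Z ⟶ W i, fl (f i) G (y ≫ j i) = p ≫ x := by
    intro i Z p
    let R' : Sieve Z :=
      { arrows := fun Z' q => R ((Over.map (f i)).map q ≫ p)
        downward_closed := fun {Z' Z''} q h g => by
          rw [Functor.map_comp, Category.assoc]; exact R.downward_closed h _ }
    have hR' : R' ∈ (Scheme.fpqcTopology.over (U i)) Z := by
      have hR₀ := hR
      rw [GrothendieckTopology.mem_over_iff] at hR₀
      rw [GrothendieckTopology.mem_over_iff]
      refine Scheme.fpqcTopology.superset_covering ?_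
        (Scheme.fpqcTopology.pullback_stable p.left hR₀)
      intro W' g hg
      rw [Sieve.overEquiv_iff]
      have hg' : R (Over.homMk (g ≫ p.left) : Over.mk ((g ≫ p.left) ≫ T.hom) ⟶ T) := (Sieve.overEquiv_iff R _).1 hg
      have hw : (g ≫ Z.hom) ≫ f i = (g ≫ p.left) ≫ T.hom := by
        rw [Category.assoc g p.left, Over.w p, Category.assoc]; rfl
      let c : (Over.map (f i)).obj (Over.mk (g ≫ Z.hom)) ⟶ Over.mk ((g ≫ p.left) ≫ T.hom) :=
        Over.homMk (𝟙 W') ((Category.id_comp _).trans hw.symm)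
      show R ((Over.map (f i)).map (Over.homMk g : Over.mk (g ≫ Z.hom) ⟶ Z) ≫ p)
      convert R.downward_closed hg' c using 1
      ext1
      exact (Category.id_comp (g ≫ p.left)).symm
    have hloc : ∀ (Z' : Over (U i)) (q : Z' ⟶ Z), R' q →
        ∃ y : Z' ⟶ W i, fl (f i) G (y ≫ j i) = (Over.map (f i)).map q ≫ p ≫ x := fun Z' q hq => by
      obtain ⟨y, hy⟩ := (fam _ hq).2 i Z' (𝟙 _)
      refine ⟨y, ?_⟩
      have hxq : ((Over.map (f i)).map q ≫ p) ≫ x = fG _ hq := hx _ hq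
      rw [← Category.assoc, hxq, hy, Category.id_comp]
    let fy : Presieve.FamilyOfElements (yoneda.obj (W i)) R'.arrows := fun {Z'} q hq => (hloc Z' q hq).choose
    obtain ⟨x', hx'⟩ := fl_surjective (f i) G (p ≫ x)
    have hfy' : ∀ {Z' : Over (U i)} (q : Z' ⟶ Z) (hq : R' q), fy q hq ≫ j i = q ≫ x' := fun {Z'} q hq =>
      fl_injective (f i) G (by
        rw [fl_comp (f i) G q x', hx']
        exact (hloc Z' q hq).choose_spec)
    have hfy : fy.Compatible := fun {Y₁ Y₂ W'} g₁ g₂ f₁ f₂ h₁ h₂ hh => by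
      show g₁ ≫ fy f₁ h₁ = g₂ ≫ fy f₂ h₂
      rw [← cancel_mono (j i), Category.assoc, Category.assoc, hfy' f₁ h₁, hfy' f₂ h₂, reassoc_of% hh]
    obtain ⟨y, hy, -⟩ := (GrothendieckTopology.Subcanonical.isSheaf_of_isRepresentable
      (J := Scheme.fpqcTopology.over (U i)) (yoneda.obj (W i))) R' hR' fy hfy
    refine ⟨y, ?_⟩
    rw [← hx']
    congr 1
    refine ((GrothendieckTopology.Subcanonical.isSheaf_of_isRepresentable
      (J := Scheme.fpqcTopology.over (U i)) (yoneda.obj (Red.bc (f i) G))) R' hR').isSeparatedFor.ext fun Z' q hq => ?_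
    show q ≫ y ≫ j i = q ≫ x'
    rw [← hfy' q hq, ← show q ≫ y = fy q hq from hy q hq, Category.assoc]
  exact ⟨⟨x, hprop⟩, fun T' q hq => Subtype.ext (hx q hq),
    fun z hz => Subtype.ext (hxu z.1 fun T' q hq => congrArg Subtype.val (hz q hq))⟩

variable [∀ i, GrpObj (W i)]

/-- A family of subgroups with affine structure maps whose points agree descends. -/
theorem exists_descent_family (hcov : Presieve.ofArrows U f ∈ Scheme.fpqcPrecoverage S)
    [∀ i, IsMonHom (j i)] [∀ i, Mono (j i)] (haff : ∀ i, IsAffineHom (W i).hom)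
    (hind : ∀ (i i' : κ) (Z : Over (U i)) (p : (Over.map (f i)).obj Z ⟶ (Over.map (f i')).obj (W i')),
      ∃ y : Z ⟶ W i, fl (f i) G (y ≫ j i) = p ≫ fl (f i') G (j i')) :
    ∃ (A : Over S) (_ : GrpObj A) (a : A ⟶ G), IsMonHom a ∧ Mono a ∧
      (∀ i, ∃ φ : Red.bc (f i) A ≅ W i, IsMonHom φ.hom ∧ φ.hom ≫ j i = (Over.pullback (f i)).map a) ∧
      ∀ {T : Over S} (x : T ⟶ G),
        (∀ (i : κ) (Z : Over (U i)) (p : (Over.map (f i)).obj Z ⟶ T), ∃ y : Z ⟶ W i, fl (f i) G (y ≫ j i) = p ≫ x) →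
        ∃ g : T ⟶ A, g ≫ a = x := by
  let ξ : ∀ i, (famFunctor j).obj (op ((Over.map (f i)).obj (W i))) := fun i =>
    ⟨fl (f i) G (j i), fun i' Z p => hind i' i Z p⟩
  have hrep : ∀ (i : κ) (T : Over (U i)) (xi : (famFunctor j).obj (op ((Over.map (f i)).obj T))),
      ∃! w : T ⟶ W i, (famFunctor j).map ((Over.map (f i)).map w).op (ξ i) = xi := by
    intro i T xi
    obtain ⟨y, hy⟩ := xi.2 i T (𝟙 _)
    rw [Category.id_comp] at hy
    refine ⟨y, Subtype.ext ((fl_comp (f i) G y (j i)).symm.trans hy),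
      fun w hw => (cancel_mono (j i)).1 (fl_injective (f i) G ?_)⟩
    rw [hy, fl_comp]
    exact congrArg Subtype.val hw
  obtain ⟨A, a, ha⟩ := exists_rep_of_cover f (F := famFunctor j) ξ hrep hcov (isSheaf_famFunctor j)
    fun D hD => SchDesc12.isEffective_of_isAffineHom (D := D) hcov fun i => by rw [hD i]; exact haff i
  have haj : ∀ {T : Over S} (g g' : T ⟶ A), g ≫ a.1 = g' ≫ a.1 → g = g' := fun {T} g g' h =>
    (ha T ((famFunctor j).map g.op a)).unique rfl (Subtype.ext h.symm)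
  haveI : Mono a.1 := ⟨fun g g' => haj g g'⟩
  have hfac : ∀ {T : Over S} (x : T ⟶ G),
      (∀ (i : κ) (Z : Over (U i)) (p : (Over.map (f i)).obj Z ⟶ T), ∃ y : Z ⟶ W i, fl (f i) G (y ≫ j i) = p ≫ x) →
      ∃ g : T ⟶ A, g ≫ a.1 = x := fun {T} x hx => by
    obtain ⟨g, hg, -⟩ := ha T ⟨x, hx⟩
    exact ⟨g, congrArg Subtype.val hg⟩
  have hmem : ∀ {T : Over S} (g : T ⟶ A) (i : κ) (Z : Over (U i)) (p : (Over.map (f i)).obj Z ⟶ T),
      ∃ y : Z ⟶ W i, fl (f i) G (y ≫ j i) = p ≫ g ≫ a.1 := fun {T} g => ((famFunctor j).map g.op a).2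
  obtain ⟨hgrp, hhom⟩ := exists_grpObj_of_subgroup a.1
    (fun X g g' => hfac _ fun i Z p => by
      obtain ⟨y, hy⟩ := hmem g i Z p
      obtain ⟨y', hy'⟩ := hmem g' i Z p
      exact ⟨y * y', by rw [MonObj.mul_comp, fl_mul, hy, hy', MonObj.comp_mul]⟩)
    (hfac _ fun i Z p => ⟨1, by rw [MonObj.one_comp, fl_one, MonObj.comp_one]⟩)
    (fun X g => hfac _ fun i Z p => by
      obtain ⟨y, hy⟩ := hmem g i Z p
      exact ⟨y⁻¹, by rw [GrpObj.inv_comp, fl_inv, hy, GrpObj.comp_inv]⟩)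
  letI := hgrp
  haveI := hhom
  refine ⟨A, hgrp, a.1, hhom, inferInstance, fun i => ?_, hfac⟩
  obtain ⟨y, hy⟩ := a.2 i (Red.bc (f i) A) (fl (f i) A (𝟙 _))
  have hy' : y ≫ j i = (Over.pullback (f i)).map a.1 := fl_injective (f i) G (by
    rw [hy, ← fl_comp_map, Category.id_comp])
  obtain ⟨b, hb⟩ := hfac (fl (f i) G (j i)) (ξ i).2
  obtain ⟨z, hz⟩ := fl_surjective (f i) A b
  have hz' : z ≫ (Over.pullback (f i)).map a.1 = j i := fl_injective (f i) G (by rw [fl_comp_map, hz, hb])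
  haveI : Mono ((Over.pullback (f i)).map a.1) := inferInstance
  let φ : Red.bc (f i) A ≅ W i := ⟨y, z,
    (cancel_mono ((Over.pullback (f i)).map a.1)).1 (by rw [Category.assoc, hz', hy', Category.id_comp]),
    (cancel_mono (j i)).1 (by rw [Category.assoc, hy', hz', Category.id_comp])⟩
  haveI : IsMonHom ((Over.pullback (f i)).map a.1) := TorsorSch25.isMonHom_of_points _ fun T u v =>
    fl_injective (f i) G (by rw [fl_comp_map, fl_mul, fl_mul, MonObj.mul_comp, fl_comp_map, fl_comp_map])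
  haveI : IsMonHom φ.hom := TorsorSch25.isMonHom_of_points y fun T u v => (cancel_mono (j i)).1 (by
    conv_rhs => rw [MonObj.mul_comp]
    rw [Category.assoc, Category.assoc, Category.assoc, hy', MonObj.mul_comp])
  exact ⟨φ, ‹_›, hy'⟩

/-- Being a torus descends along fpqc coverings. -/
theorem isTorus_of_bc {S' : Scheme.{u}} (π : S' ⟶ S) [Flat π] [Surjective π]
    (hcov : ∀ V : S.Opens, IsAffineOpen V → ∃ W : S'.Opens, IsCompact (W : Set S') ∧ π.base '' (W : Set S') = (V : Set S))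
    (A : Over S) [GrpObj A] (h : Red.IsTorus (Red.bc π A)) : Red.IsTorus A := by
  obtain ⟨T, f, hf, hs, hc, hloc⟩ := h
  haveI := hf
  haveI := hs
  refine ⟨T, f ≫ π, inferInstance, inferInstance, fun V hV => ?_, fun t => ?_⟩
  · obtain ⟨W, hW, hWV⟩ := hcov V hV
    have hopen : ∀ w : W, ∃ B : S'.Opens, IsAffineOpen B ∧ w.1 ∈ B ∧ B ≤ W := fun w =>
      exists_isAffineOpen_mem_and_subset w.2
    choose B hB hwB hBW using hopen
    obtain ⟨F, hF⟩ := hW.elim_finite_subcover (fun w => (B w : Set S')) (fun w => (B w).2)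
      (fun x hx => Set.mem_iUnion.2 ⟨⟨x, hx⟩, hwB ⟨x, hx⟩⟩)
    choose C hC hCB using fun w => hc (B w) (hB w)
    refine ⟨⨆ w : F, C w.1, ?_, ?_⟩
    · rw [TopologicalSpace.Opens.coe_iSup]; exact isCompact_iUnion fun w => hC w.1
    · rw [TopologicalSpace.Opens.coe_iSup, Set.image_iUnion, ← hWV]
      refine Set.Subset.antisymm (Set.iUnion_subset fun w => ?_) ?_
      · rintro _ ⟨c, hc', rfl⟩
        exact ⟨f c, hBW w.1 (Set.ext_iff.1 (hCB w.1) (f c) |>.1 ⟨c, hc', rfl⟩), rfl⟩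
      · rintro _ ⟨x, hx, rfl⟩
        obtain ⟨w, hw, hxw⟩ := Set.mem_iUnion₂.1 (hF hx)
        obtain ⟨c, hc', rfl⟩ := (Set.ext_iff.1 (hCB w) x).2 hxw
        exact Set.mem_iUnion.2 ⟨⟨w, hw⟩, c, hc', rfl⟩
  · obtain ⟨V, hV, r, ⟨e⟩⟩ := hloc t
    haveI := isMonHom_compIso (π := π) (p := V.ι ≫ f) (q := V.ι ≫ f ≫ π) (Category.assoc _ _ _) A
    exact ⟨V, hV, r, ⟨(Grp.mkIso' (compIso (π := π) (p := V.ι ≫ f) (Category.assoc _ _ _) A)).symm ≪≫ e⟩⟩

/-- Open surjective maps are fpqc coverings in the sense of quasi-compact opens. -/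
theorem exists_compact_image {S' : Scheme.{u}} (π : S' ⟶ S) (ho : IsOpenMap π) (hs : Function.Surjective π)
    (V : S.Opens) (hV : IsAffineOpen V) :
    ∃ W : S'.Opens, IsCompact (W : Set S') ∧ π.base '' (W : Set S') = (V : Set S) := by
  have hopen : ∀ v : V, ∃ B : S'.Opens, IsAffineOpen B ∧ B ≤ π ⁻¹ᵁ V ∧ v.1 ∈ π '' (B : Set S') := fun v => by
    obtain ⟨w, hw⟩ := hs v.1
    obtain ⟨B, hB, hwB, hBV⟩ := exists_isAffineOpen_mem_and_subset (x := w) (U := π ⁻¹ᵁ V)
      (show π w ∈ V by rw [hw]; exact v.2)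
    exact ⟨B, hB, hBV, ⟨w, hwB, hw⟩⟩
  choose B hB hBV hvB using hopen
  obtain ⟨F, hF⟩ := hV.isCompact.elim_finite_subcover (fun v : V => π '' (B v : Set S'))
    (fun v => ho _ (B v).2) (fun x hx => Set.mem_iUnion.2 ⟨⟨x, hx⟩, hvB ⟨x, hx⟩⟩)
  refine ⟨⨆ v : F, B v.1, ?_, ?_⟩
  · rw [TopologicalSpace.Opens.coe_iSup]; exact isCompact_iUnion fun v => (hB v.1).isCompact
  · rw [TopologicalSpace.Opens.coe_iSup, Set.image_iUnion]
    refine Set.Subset.antisymm (Set.iUnion_subset fun v => ?_) fun x hx => ?_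
    · rintro _ ⟨w, hw, rfl⟩
      exact hBV v.1 hw
    · obtain ⟨v, hv, hxv⟩ := Set.mem_iUnion₂.1 (hF hx)
      exact Set.mem_iUnion.2 ⟨⟨v, hv⟩, hxv⟩

/-- A group split etale-locally with free characters is a torus. -/
theorem isTorus_of_etale_split (A : Over S) [GrpObj A] (V : κ → Scheme.{u}) (e : ∀ i, V i ⟶ S) [∀ i, Etale (e i)]
    (hs : ∀ s : S, ∃ i, s ∈ Set.range (e i)) (r : κ → ℕ) (C : ∀ i, Chars (Fin (r i) → ℤ) (Red.bc (e i) A)) :
    Red.IsTorus A := by
  let F : (∐ V) ⟶ S := Sigma.desc e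
  have hF : ∀ i, Sigma.ι V i ≫ F = e i := fun i => Sigma.ι_desc _ _
  haveI : Etale F := IsZariskiLocalAtSource.sigmaDesc inferInstance
  haveI : Surjective F := ⟨fun s => by
    obtain ⟨i, z, hz⟩ := hs s
    exact ⟨Sigma.ι V i z, by rw [← Scheme.Hom.comp_apply, hF]; exact hz⟩⟩
  refine ⟨_, F, inferInstance, inferInstance, exists_compact_image F F.isOpenMap F.surjective, fun z => ?_⟩
  obtain ⟨i, y, hy⟩ := (sigmaOpenCover V).exists_eq z
  let jp := Sigma.ι V i
  refine ⟨jp.opensRange, ⟨y, hy⟩, r i, ?_⟩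
  have hk : jp.isoOpensRange.inv ≫ e i = jp.opensRange.ι ≫ F := by
    rw [← Scheme.Hom.isoOpensRange_inv_comp jp, Category.assoc, hF]
  rw [← hk]
  exact TorPts21.isSplitTorusWith_of_chars (charsComp _ _ _ ((C i).baseChange jp.isoOpensRange.inv _))

end Groth.Agent.MTDesc21
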